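import Cfsg.Agent.Lib.Helper23.Fi23MC1
import Cfsg.Agent.Lib.Helper4.TC.Fi23CMain

/-!
# S2054 piece [C2] (helper5): the primes `2` and `5`, from `M(Fi₂₂) = C₆`

helper23's generic [C1] applied to helper4's subgroup `H = ⟨a, …, i⟩ = 2·Fi₂₂` of index `31671` of `Fi₂₃`
(`Fi23Fi22.main`, `Fi23C.main`); `H` is perfect because it is the image of the perfect group presented by
`Fi23Z1.bases` (`Fi23C.hperf`), of order at most `|H|` (`Fi23S.card0`).
-/

set_option autoImplicit false
set_option linter.unusedVariables false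
set_option maxRecDepth 100000

namespace Cfsg.Agent.Lib.Helper5.Fi23M

open Cfsg.Agent.Helper4.TC

namespace C2Aux

/-- a subgroup contained in the image of a perfect group of at most its order is perfect -/
theorem perfect_of_range {P G : Type*} [Group P] [Group G] (Hs : Subgroup G) (ψ : P →* G)
    (hle : Hs ≤ ψ.range) (k : ℕ) (hHcard : Nat.card Hs = k) (hk : 0 < k)
    (hP : Finite P ∧ Nat.card P ≤ k) (hperf : commutator P = ⊤) : commutator Hs = ⊤ := by
  haveI := hP.1
  haveI : Finite ψ.range := Finite.of_surjective ψ.rangeRestrict ψ.rangeRestrict_surjective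
  have h1 : Nat.card ψ.range ≤ Nat.card P :=
    Nat.card_le_card_of_surjective ψ.rangeRestrict ψ.rangeRestrict_surjective
  have hEq : Hs = ψ.range := Subgroup.eq_of_le_of_card_ge hle (by omega)
  subst hEq
  have h3 : (commutator P).map ψ.rangeRestrict = commutator ψ.range := by
    rw [commutator_def, commutator_def, Subgroup.map_commutator,
      Subgroup.map_top_of_surjective _ ψ.rangeRestrict_surjective]
  rw [← h3, hperf, Subgroup.map_top_of_surjective _ ψ.rangeRestrict_surjective]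

theorem card_H : Nat.card ((Subgroup.closure Fi23Fi22.Sset).map (PresentedGroup.mk Fi23C.Rset)) =
    129123503308800 := by
  have hG : Nat.card (PresentedGroup Fi23C.Rset) = 4089470473293004800 := Fi23S.main.2
  have hH := ((Subgroup.closure Fi23Fi22.Sset).map (PresentedGroup.mk Fi23C.Rset)).card_mul_index
  rw [Fi23Fi22.main.1, hG] at hH
  omega

theorem perfect_H : commutator ((Subgroup.closure Fi23Fi22.Sset).map (PresentedGroup.mk Fi23C.Rset)) = ⊤ := by
  obtain ⟨ψ, hψ⟩ := exists_stage_hom Fi23C.Rset Fi23C.PR Fi23Fi22.Sset Fi23Fi22.bases Fi23Z1.bases Fi23Fi22.subsL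
    (fun x : Cfsg.Spor.Fi23.Gen =>
      decide (x ∈ ([.a, .b, .c, .d, .e, .f, .g, .h, .i] : List Cfsg.Spor.Fi23.Gen)))
    Fi23Fi22.hR2 (fun r hr => hr) Fi23Fi22.hS1 (by decide +kernel) (by decide +kernel)
  exact perfect_of_range _ ψ hψ 129123503308800 card_H (by norm_num)
    ⟨Fi23S.card0.1, Fi23S.card0.2⟩ Fi23C.hperf

end C2Aux

open C2Aux in
/-- [C2] the kernel of a finite stem extension of `Fi₂₃` has no `2`-part and no `5`-part -/
theorem card_ker_eq_one_of_Fi22 (hFi22 : Cfsg.HasCyclicSchurMultiplier Cfsg.Spor.Fi22 6)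
    (p : ℕ) [Fact p.Prime] (hp : p = 2 ∨ p = 5)
    {Γ : Type} [Group Γ] [Finite Γ] (σ : Γ →* Cfsg.Spor.Fi23) (hσ : Cfsg.IsStemExtension σ)
    (hk : IsPGroup p σ.ker) : Nat.card σ.ker = 1 := by
  have hidx := Fi23Fi22.main.1
  refine card_ker_eq_one_of_double_cover (G := Cfsg.Spor.Fi23) (Q := Cfsg.Spor.Fi22)
    ((Subgroup.closure Fi23Fi22.Sset).map (PresentedGroup.mk Fi23C.Rset)) Fi23C.main perfect_H hFi22 p hp
    ?_ ?_ σ hσ hk
  · rw [hidx]
    norm_num
  · rw [hidx]
    rcases hp with rfl | rfl <;> norm_num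

end Cfsg.Agent.Lib.Helper5.Fi23M
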