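import Cfsg.Agent.Lib.Helper4.TC.Perm

/-!
# S2054 piece [D], generic part (helper5)

* `stage_hom_map`: the homomorphism of helper4's `exists_stage_hom`, with its effect on a second subgroup.
* `card_range_le`: `|ψ(P)| ≤ |P : K| |ψ(K)|`.
* `orbit_mul_card_le`: orbit-stabiliser for a subgroup acting through a permutation representation.
-/

set_option autoImplicit false
set_option linter.unusedVariables false

namespace Cfsg.Agent.Lib.Helper5.Fi23M.DGen

open Cfsg.Agent.Helper4.TC

section Stage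

variable {α : Type} {dec : ℕ → Letter α}

/-- the homomorphism from the group given by relators of a subgroup, and the image of a second subgroup -/
theorem stage_hom_map (R R' S T : Set (FreeGroup α)) (B B' SL TL : List (List ℕ)) (u : α → Bool)
    (hR2 : ∀ b ∈ B, wordF dec b ∈ R)
    (hR1' : ∀ r ∈ R', ∃ b ∈ B', r = wordF dec b)
    (hS1 : ∀ s ∈ S, ∃ b ∈ SL, s = wordF dec b)
    (hSu : ∀ s ∈ SL, filt dec u s = s)
    (hT1 : ∀ s ∈ T, ∃ b ∈ TL, s = wordF dec b)
    (hT2 : ∀ b ∈ TL, wordF dec b ∈ T)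
    (hTu : ∀ s ∈ TL, filt dec u s = s)
    (hB' : ∀ b ∈ B', filt dec u b = [] ∨ filt dec u b ∈ B) :
    ∃ ψ : PresentedGroup R' →* PresentedGroup R,
      (Subgroup.closure S).map (PresentedGroup.mk R) ≤ ψ.range ∧
      ((Subgroup.closure T).map (PresentedGroup.mk R')).map ψ ≤ (Subgroup.closure T).map (PresentedGroup.mk R) := by
  let f : α → PresentedGroup R := fun x => if u x then PresentedGroup.of x else 1
  have hf : ∀ b : List ℕ, FreeGroup.lift f (wordF dec b) =
      PresentedGroup.mk R (wordF dec (filt dec u b)) := by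
    intro b
    rw [lift_wordF, evc_kill, evc_of]
  have hrel : ∀ r ∈ R', FreeGroup.lift f r = 1 := by
    intro r hr
    obtain ⟨b, hb, rfl⟩ := hR1' r hr
    rw [hf]
    rcases hB' b hb with h | h
    · rw [h]
      rfl
    · exact PresentedGroup.one_of_mem (hR2 _ h)
  refine ⟨PresentedGroup.toGroup hrel, ?_, ?_⟩
  · rw [MonoidHom.map_closure, Subgroup.closure_le]
    rintro _ ⟨s, hs, rfl⟩
    obtain ⟨b, hb, rfl⟩ := hS1 s hs
    refine ⟨PresentedGroup.mk R' (wordF dec b), ?_⟩
    show PresentedGroup.toGroup hrel (PresentedGroup.mk R' (wordF dec b)) = _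
    rw [toGroup_mk, hf, hSu b hb]
  · rw [Subgroup.map_map, MonoidHom.map_closure, Subgroup.closure_le]
    rintro _ ⟨s, hs, rfl⟩
    obtain ⟨b, hb, rfl⟩ := hT1 s hs
    show PresentedGroup.toGroup hrel (PresentedGroup.mk R' (wordF dec b)) ∈ _
    rw [toGroup_mk, hf, hTu b hb]
    exact Subgroup.mem_map_of_mem _ (Subgroup.subset_closure (hT2 b hb))

end Stage

/-- `|ψ(P)| ≤ |P : K| |ψ(K)|` -/
theorem card_range_le {P G : Type*} [Group P] [Group G] [Finite G] (ψ : P →* G) (K : Subgroup P) (n : ℕ)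
    (hidx : Finite (P ⧸ K) ∧ Nat.card (P ⧸ K) ≤ n) :
    Nat.card ψ.range ≤ n * Nat.card (K.map ψ) := by
  obtain ⟨hfin, hcard⟩ := hidx
  have h2 : K.index = Nat.card (P ⧸ K) := Subgroup.index_eq_card K
  have h3 : 0 < K.index := by rw [h2]; exact Nat.card_pos
  have h1 : (K.map ψ.rangeRestrict).index ∣ K.index :=
    Subgroup.index_map_dvd K ψ.rangeRestrict_surjective
  have h4 : (K.map ψ.rangeRestrict).index ≤ n :=
    le_trans (Nat.le_of_dvd h3 h1) (h2 ▸ hcard)
  have h5 : Nat.card (K.map ψ.rangeRestrict) * (K.map ψ.rangeRestrict).index = Nat.card ψ.range :=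
    Subgroup.card_mul_index _
  have h6 : Nat.card (K.map ψ.rangeRestrict) = Nat.card (K.map ψ) := by
    have e : (K.map ψ.rangeRestrict).map ψ.range.subtype = K.map ψ := by
      rw [Subgroup.map_map]
      rfl
    rw [← e]
    exact (Subgroup.card_map_of_injective (Subgroup.subtype_injective _)).symm
  rw [← h5, h6, mul_comm]
  exact Nat.mul_le_mul_right _ h4

/-- orbit-stabiliser for a subgroup `B` acting through `φ`: a set `O` of points reached from `x` by `B`, and a
subgroup `C ≤ B` fixing `x` -/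
theorem orbit_mul_card_le {G : Type*} [Group G] [Finite G] {N : ℕ} (φ : G →* Equiv.Perm (Fin N))
    (B C : Subgroup G) (hCB : C ≤ B) (x : Fin N) (hC : ∀ c ∈ C, φ c x = x) (O : Set (Fin N))
    (hO : ∀ y ∈ O, ∃ g ∈ B.map φ, g • x = y) :
    O.ncard * Nat.card C ≤ Nat.card B := by
  classical
  letI : MulAction G (Fin N) := MulAction.compHom (Fin N) φ
  have hsmul : ∀ (g : G) (y : Fin N), g • y = φ g y := fun g y => rfl
  have hsub : O ⊆ MulAction.orbit B x := by
    intro y hy
    obtain ⟨g, ⟨b, hb, rfl⟩, hg⟩ := hO y hy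
    exact ⟨⟨b, hb⟩, hg⟩
  have h1 : O.ncard ≤ (MulAction.orbit B x).ncard := Set.ncard_le_ncard hsub (Set.toFinite _)
  have h2 : (MulAction.stabilizer B x).index = (MulAction.orbit B x).ncard := MulAction.index_stabilizer B x
  have h3 : Nat.card (MulAction.stabilizer B x) * (MulAction.stabilizer B x).index = Nat.card B :=
    Subgroup.card_mul_index _
  have h4 : C.subgroupOf B ≤ MulAction.stabilizer B x := by
    intro c hc
    rw [MulAction.mem_stabilizer_iff]
    exact hC c.val (Subgroup.mem_subgroupOf.mp hc)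
  have h5 : Nat.card C ≤ Nat.card (MulAction.stabilizer B x) := by
    have e : C.subgroupOf B ≃* C := Subgroup.subgroupOfEquivOfLe hCB
    rw [← Nat.card_congr e.toEquiv]
    exact Subgroup.card_le_of_le h4
  rw [← h3, h2, mul_comm]
  exact Nat.mul_le_mul h5 h1

end Cfsg.Agent.Lib.Helper5.Fi23M.DGen
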