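import Cfsg.Agent.Lib.Helper5.Fi23M.Defs
import Cfsg.Agent.Lib.Helper5.Fi23M.Orb
import Cfsg.Agent.Lib.Helper5.Fi23M.DGen
import Cfsg.Agent.Lib.Helper4.TC.Fi23SMain

/-!
# S2054 piece [D] (helper5): `⟨b, …, j⟩ ≤ Fi₂₃` has order at least `1080 * 9170703360 = |O₈⁺(3):2|`

(1) `H = ⟨a, …, i⟩` has order `|Fi₂₃| / 31671` (helper4: `Fi23Fi22.main`, `Fi23S.main`); the stage homomorphism from
the group presented by `Fi23Z1.bases` is onto a subgroup containing `H` and maps `⟨b, …, i⟩`, of index at most `14080`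
(`Fi23Z1.bound`), into `C = ⟨b, …, i⟩ ≤ Fi₂₃`: `|C| ≥ 9170703360`. (2) `C` fixes the point `0` of helper4's model on
`31671` points, and the orbit of `0` under `⟨b, …, j⟩` has at least `1080` points (`Orb.lvlB`).
-/

set_option autoImplicit false
set_option linter.unusedVariables false
set_option maxRecDepth 100000

namespace Cfsg.Agent.Lib.Helper5.Fi23M

open Cfsg.Agent.Helper4.TC

namespace DAux

/-- the subgroup `⟨b, …, i⟩` of `Fi₂₃` -/
noncomputable def C : Subgroup (PresentedGroup Fi23S.Rset) :=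
  (Subgroup.closure (relSet Fi23Cod.dec Fi23Z1.subsL)).map (PresentedGroup.mk Fi23S.Rset)

theorem finiteG : Finite (PresentedGroup Fi23S.Rset) :=
  Nat.finite_of_card_ne_zero (by rw [Fi23S.main.2]; norm_num)

theorem card_C_ge : 9170703360 ≤ Nat.card C := by
  haveI := finiteG
  obtain ⟨ψ, hψ1, hψ2⟩ := DGen.stage_hom_map (dec := Fi23Cod.dec) Fi23S.Rset (relSet Fi23Cod.dec Fi23Z1.bases)
    Fi23Fi22.Sset (relSet Fi23Cod.dec Fi23Z1.subsL) Fi23Fi22.bases Fi23Z1.bases Fi23Fi22.subsL Fi23Z1.subsL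
    (fun x : Cfsg.Spor.Fi23.Gen =>
      decide (x ∈ ([.a, .b, .c, .d, .e, .f, .g, .h, .i] : List Cfsg.Spor.Fi23.Gen)))
    Fi23Fi22.hR2 (fun r hr => hr) Fi23Fi22.hS1 (by decide +kernel) (fun s hs => hs) (mem_relSet _)
    (by decide +kernel) (by decide +kernel)
  have h1 := DGen.card_range_le ψ _ Fi23Z1.n Fi23Z1.bound
  have hG : Nat.card (PresentedGroup Fi23S.Rset) = 4089470473293004800 := Fi23S.main.2
  have hH := ((Subgroup.closure Fi23Fi22.Sset).map (PresentedGroup.mk Fi23S.Rset)).card_mul_index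
  rw [Fi23Fi22.main.1, hG] at hH
  have h2 : Nat.card ((Subgroup.closure Fi23Fi22.Sset).map (PresentedGroup.mk Fi23S.Rset)) ≤ Nat.card ψ.range :=
    Subgroup.card_le_of_le hψ1
  have h3 : Nat.card (((Subgroup.closure (relSet Fi23Cod.dec Fi23Z1.subsL)).map
      (PresentedGroup.mk (relSet Fi23Cod.dec Fi23Z1.bases))).map ψ) ≤ Nat.card C :=
    Subgroup.card_le_of_le hψ2
  have hn : Fi23Z1.n = 14080 := rfl
  rw [hn] at h1
  have h4 : Nat.card ψ.range ≤ 14080 * Nat.card C := le_trans h1 (Nat.mul_le_mul_left _ h3)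
  omega

theorem mk_single (k : ℕ) (hk : k < 10) :
    PresentedGroup.mk Fi23S.Rset (wordF Fi23Cod.dec [2 * k]) = gen k := by
  interval_cases k <;> rfl

/-- the subgroup `⟨b, …, j⟩` of `Fi₂₃` -/
noncomputable def B : Subgroup (PresentedGroup Fi23S.Rset) :=
  Subgroup.closure (Set.range fun i : Fin 9 => gen (ordB.getD i.val 0))

theorem gen_mem_B (k : ℕ) (h1 : 1 ≤ k) (h9 : k ≤ 9) : gen k ∈ B := by
  unfold B
  interval_cases k
  · exact Subgroup.subset_closure ⟨⟨0, by norm_num⟩, rfl⟩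
  · exact Subgroup.subset_closure ⟨⟨3, by norm_num⟩, rfl⟩
  · exact Subgroup.subset_closure ⟨⟨4, by norm_num⟩, rfl⟩
  · exact Subgroup.subset_closure ⟨⟨5, by norm_num⟩, rfl⟩
  · exact Subgroup.subset_closure ⟨⟨6, by norm_num⟩, rfl⟩
  · exact Subgroup.subset_closure ⟨⟨7, by norm_num⟩, rfl⟩
  · exact Subgroup.subset_closure ⟨⟨8, by norm_num⟩, rfl⟩
  · exact Subgroup.subset_closure ⟨⟨2, by norm_num⟩, rfl⟩
  · exact Subgroup.subset_closure ⟨⟨1, by norm_num⟩, rfl⟩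

/-- a word of one even letter `2 k`, `1 ≤ k ≤ 9` -/
theorem single_of_mem (L : List (List ℕ)) (hL : L.all (fun w => decide (w = [2 * (w.headD 0 / 2)]) &&
      decide (1 ≤ w.headD 0 / 2) && decide (w.headD 0 / 2 ≤ 9)) = true) (w : List ℕ) (hw : w ∈ L) :
    ∃ k, 1 ≤ k ∧ k ≤ 9 ∧ w = [2 * k] := by
  have h := List.all_eq_true.mp hL w hw
  simp only [Bool.and_eq_true, decide_eq_true_eq] at h
  exact ⟨w.headD 0 / 2, h.1.2, h.2, h.1.1⟩

theorem mk_word_mem_B (L : List (List ℕ)) (hL : L.all (fun w => decide (w = [2 * (w.headD 0 / 2)]) &&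
      decide (1 ≤ w.headD 0 / 2) && decide (w.headD 0 / 2 ≤ 9)) = true) (w : List ℕ) (hw : w ∈ L) :
    PresentedGroup.mk Fi23S.Rset (wordF Fi23Cod.dec w) ∈ B := by
  obtain ⟨k, h1, h9, rfl⟩ := single_of_mem L hL w hw
  rw [mk_single k (by omega)]
  exact gen_mem_B k h1 h9

theorem C_le_B : C ≤ B := by
  unfold C
  rw [MonoidHom.map_closure, Subgroup.closure_le]
  rintro _ ⟨s, ⟨w, hw, rfl⟩, rfl⟩
  exact mk_word_mem_B Fi23Z1.subsL (by decide) w hw

/-- the permutation representation on `31671` points -/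
noncomputable def φ : PresentedGroup Fi23S.Rset →* Equiv.Perm (Fin Fi23Fi22.mdata.n) :=
  modelHom Fi23Fi22.coding Fi23Fi22.hR1 Fi23Fi22.model_ok

theorem pos0 : 0 < Fi23Fi22.mdata.n := by decide

theorem C_fix : ∀ c ∈ C, φ c ⟨0, pos0⟩ = ⟨0, pos0⟩ := by
  have hle : C ≤ (MulAction.stabilizer (Equiv.Perm (Fin Fi23Fi22.mdata.n)) (⟨0, pos0⟩ : Fin Fi23Fi22.mdata.n)).comap φ := by
    unfold C
    rw [MonoidHom.map_closure, Subgroup.closure_le]
    rintro _ ⟨s, ⟨w, hw, rfl⟩, rfl⟩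
    show φ (PresentedGroup.mk Fi23S.Rset (wordF Fi23Cod.dec w)) ∈ MulAction.stabilizer _ _
    rw [MulAction.mem_stabilizer_iff]
    apply Fin.ext
    show (φ (PresentedGroup.mk Fi23S.Rset (wordF Fi23Cod.dec w)) ⟨0, pos0⟩).val = 0
    have hw' : w ∈ [[2], [4], [6], [8], [10], [12], [16], [18]] := hw
    unfold φ
    exact (modelHom_word Fi23Fi22.coding Fi23Fi22.hR1 Fi23Fi22.model_ok w
      ((by decide : ∀ w ∈ [[2], [4], [6], [8], [10], [12], [16], [18]], ∀ c ∈ w, c < Fi23Fi22.mdata.nc) w hw')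
      ⟨0, pos0⟩).trans (Orb.fixB w hw')
  intro c hc
  exact MulAction.mem_stabilizer_iff.mp (hle hc)

end DAux

open DAux in
/-- [D] `9904359628800 = 1080 * 9170703360` -/
theorem card_B_ge :
    9904359628800 ≤ Nat.card (Subgroup.closure (Set.range fun i : Fin 9 => gen (ordB.getD i.val 0))) := by
  haveI := finiteG
  obtain ⟨O, hO1, hO2⟩ := Orb.lvlB.exists_set Fi23Fi22.coding Fi23Fi22.hR1 Fi23Fi22.model_ok Orb.lettersB pos0
    (B.map φ) (fun w hw => Subgroup.mem_map_of_mem _ (mk_word_mem_B Orb.WB (by decide) w hw))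
  have h := DGen.orbit_mul_card_le φ B C C_le_B ⟨0, pos0⟩ C_fix O hO2
  rw [hO1, Orb.cntB] at h
  have hC := card_C_ge
  show 9904359628800 ≤ Nat.card B
  omega

end Cfsg.Agent.Lib.Helper5.Fi23M
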