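import Cfsg.Prelude.Def_Spor_Fi23
import Cfsg.Prelude.Def_KGroupFacts
import Cfsg.Agent.H5.TCkSound

/-!
# S2054 (the Schur multiplier of `Fi₂₃` is trivial): definitions (helper5)

Generators of `Cfsg.Spor.Fi23` as a sequence (helper4's order `a b c d e f g j h i`, letter codes `2 i`), the
Coxeter words, the two further relators, and the relators `relsB` of the weak group of `⟨b, …, j⟩ = O₈⁺(3):2`
(the generators in the order `b i h c d e f g j` followed by a central generator `z` with `z = spider ^ 10`)
used by the coset enumeration of index `28431` over the `E₈` sub-diagram `⟨c, d, e, f, g, j, h, i⟩`.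
Words are evaluated by `Cfsg.H5.TCk.ev` (letter `2 i` = generator `i`, `2 i + 1` = its inverse, product from
left to right).
-/

set_option autoImplicit false

namespace Cfsg.Agent.Lib.Helper5.Fi23M

open Cfsg.H5.TCk

/-- the generators of `Fi₂₃` in helper4's order -/
def genL : List Cfsg.Spor.Fi23.Gen := [.a, .b, .c, .d, .e, .f, .g, .j, .h, .i]

/-- the generators of `Fi₂₃` as a sequence: `gen 0 = a`, …, `gen 7 = j`, `gen 8 = h`, `gen 9 = i` -/
noncomputable def gen (i : ℕ) : Cfsg.Spor.Fi23 :=
  PresentedGroup.of (genL.getD i Cfsg.Spor.Fi23.Gen.a)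

/-- `w` repeated `n` times -/
def rep (w : List ℕ) : ℕ → List ℕ
  | 0 => []
  | n + 1 => w ++ rep w n

/-- the Coxeter graph `Y₃₄₂` on the indices `0 … 9` -/
def adj (x y : ℕ) : Bool :=
  [(0, 1), (1, 2), (2, 3), (3, 4), (3, 8), (4, 5), (5, 6), (6, 7), (8, 9)].any
    fun e => (e.1 == x && e.2 == y) || (e.1 == y && e.2 == x)

/-- the order of the product of the generators `x ≠ y` -/
def mxy (x y : ℕ) : ℕ := if adj x y then 3 else 2

/-- the Coxeter words `(x y) ^ m(x, y)` for `x < y < 10` -/
def coxW : List (List ℕ) :=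
  (List.range 10).flatMap fun x => ((List.range 10).filter fun y => x < y).map fun y =>
    rep [2 * x, 2 * y] (mxy x y)

/-- the spider word `d c b d e f d h i` -/
def spider : List ℕ := [6, 4, 2, 6, 8, 10, 6, 16, 18]

/-- `(d c b d e f d h i) ^ 10` -/
def rho1 : List ℕ := rep spider 10

/-- `(a b c d e f h) ^ 9` -/
def rho2 : List ℕ := rep [0, 2, 4, 6, 8, 10, 16] 9

/-! ### the weak group of `⟨b, …, j⟩` -/

/-- the generators of the enumeration: `b i h c d e f g j` (indices `0 … 8`) as indices of `gen` -/
def ordB : List ℕ := [1, 9, 8, 2, 3, 4, 5, 6, 7]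

/-- the Coxeter graph on the indices `0 … 8` of `ordB` -/
def adjB (x y : ℕ) : Bool := adj (ordB.getD x 0) (ordB.getD y 0)

/-- the spider word in the letters of `ordB`: `d c b d e f d h i` -/
def spiderB : List ℕ := [8, 6, 0, 8, 10, 12, 8, 4, 2]

/-- the relators of the weak group: squares, Coxeter words, `spider ^ 10 = z`, `z` central (letter `18`) -/
def relsB : List (List ℕ) :=
  ((List.range 9).map fun x => [2 * x, 2 * x]) ++
  ((List.range 9).flatMap fun x => ((List.range 9).filter fun y => x < y).map fun y =>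
    rep [2 * x, 2 * y] (if adjB x y then 3 else 2)) ++
  [rep spiderB 10 ++ [19]] ++
  ((List.range 9).map fun x => [18, 2 * x, 19, 2 * x])

end Cfsg.Agent.Lib.Helper5.Fi23M
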