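import Cfsg.Agent.Lib.Helper5.Sp62C

/-!
# S2054 piece [E-step] (helper5): one level of a chain of coset enumerations inside a fixed group

`Δ = ⟨γ i | i ∈ U⟩ ≤ Γ`, `δ i = γ i` for `i ∈ U` and `1` otherwise. The relators of the certificate are `[2 k]` with
`k` not used, or words in the used letters which hold in `Γ`; the subgroup words are single used letters of `U' ⊆ U`.
Then `|⟨γ i | i ∈ U⟩| ≤ n |⟨γ i | i ∈ U'⟩|`.
-/

set_option autoImplicit false
set_option linter.unusedVariables false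

namespace Cfsg.Agent.Lib.Helper5.Fi23M

open Cfsg.H5.TCk
open Cfsg.Agent.Helper4.TC (Letter relSet)

universe u

namespace StepAux

variable {Γ : Type u} [Group Γ]

theorem ev_single (γ : ℕ → Γ) (i : ℕ) : ev γ [2 * i] = γ i := by
  have h1 : (2 * i) % 2 = 0 := by omega
  have h2 : (2 * i) / 2 = i := by omega
  simp [ev, gl, h1, h2]

/-- the value of a word in the letters of `U` for the restricted generators -/
theorem coe_ev (γ : ℕ → Γ) (D : Subgroup Γ) (U : List ℕ) (δ : ℕ → D)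
    (hδ : ∀ i ∈ U, (δ i : Γ) = γ i) (w : List ℕ) (hw : ∀ l ∈ w, l / 2 ∈ U) :
    ((ev δ w : D) : Γ) = ev γ w := by
  induction w with
  | nil => simp [ev]
  | cons l w ih =>
    have h1 := hδ (l / 2) (hw l List.mem_cons_self)
    have h2 := ih (fun x hx => hw x (List.mem_cons_of_mem _ hx))
    simp only [ev, Subgroup.coe_mul, h2]
    congr 1
    unfold gl
    by_cases hl : l % 2 = 0
    · simp only [hl, if_true, h1]
    · simp only [hl, if_false, Subgroup.coe_inv, h1]

end StepAux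

open StepAux in
/-- [E-step] one level of a chain of coset enumerations inside a fixed group -/
theorem step_bound {Γ : Type u} [Group Γ] {t : ℕ} (dec : ℕ → Letter (Fin t))
    (hdec : Cfsg.Agent.Lib.Helper5.Sp62.IsStd t dec) (bases subsL : List (List ℕ)) (n : ℕ)
    (hb : Finite (PresentedGroup (relSet dec bases) ⧸
        (Subgroup.closure (relSet dec subsL)).map (PresentedGroup.mk (relSet dec bases))) ∧
      Nat.card (PresentedGroup (relSet dec bases) ⧸
        (Subgroup.closure (relSet dec subsL)).map (PresentedGroup.mk (relSet dec bases))) ≤ n)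
    (γ : ℕ → Γ) (U U' : List ℕ) (hU : ∀ i ∈ U, i < t) (hU' : ∀ i ∈ U', i ∈ U)
    (hbases : ∀ b ∈ bases, (∃ k, k < t ∧ k ∉ U ∧ b = [2 * k]) ∨ ((∀ l ∈ b, l / 2 ∈ U) ∧ ev γ b = 1))
    (hsubs : ∀ s ∈ subsL, ∃ i ∈ U', s = [2 * i]) (m : ℕ)
    (hK : Finite (Subgroup.closure (γ '' {i | i ∈ U'})) ∧
      Nat.card (Subgroup.closure (γ '' {i | i ∈ U'})) ≤ m) :
    Finite (Subgroup.closure (γ '' {i | i ∈ U})) ∧ Nat.card (Subgroup.closure (γ '' {i | i ∈ U})) ≤ n * m := by
  classical
  set D : Subgroup Γ := Subgroup.closure (γ '' {i | i ∈ U}) with hD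
  set D' : Subgroup Γ := Subgroup.closure (γ '' {i | i ∈ U'}) with hD'
  have hmem : ∀ i ∈ U, γ i ∈ D := fun i hi => Subgroup.subset_closure ⟨i, hi, rfl⟩
  have hle : D' ≤ D := by
    rw [hD', Subgroup.closure_le]
    rintro _ ⟨i, hi, rfl⟩
    exact hmem i (hU' i hi)
  let δ : ℕ → D := fun i => if h : i ∈ U then ⟨γ i, hmem i h⟩ else 1
  have hδ : ∀ i ∈ U, (δ i : Γ) = γ i := by
    intro i hi
    show ((if h : i ∈ U then (⟨γ i, hmem i h⟩ : D) else 1 : D) : Γ) = γ i
    rw [dif_pos hi]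
  have hδ1 : ∀ i, i ∉ U → δ i = 1 := by
    intro i hi
    show (if h : i ∈ U then (⟨γ i, hmem i h⟩ : D) else 1 : D) = 1
    rw [dif_neg hi]
  -- the relators
  have hrel : ∀ b ∈ bases, ev δ b = 1 := by
    intro b hbm
    rcases hbases b hbm with ⟨k, hk, hkU, rfl⟩ | ⟨hl, he⟩
    · rw [ev_single, hδ1 k hkU]
    · apply Subtype.ext
      rw [coe_ev γ D U δ hδ b hl, he]
      rfl
  have hlb : ∀ b ∈ bases, ∀ l ∈ b, l < 2 * t := by
    intro b hbm l hl
    rcases hbases b hbm with ⟨k, hk, hkU, rfl⟩ | ⟨hl', he⟩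
    · rw [List.mem_singleton] at hl
      omega
    · have := hU _ (hl' l hl)
      omega
  have hls : ∀ b ∈ subsL, ∀ l ∈ b, l < 2 * t := by
    intro s hs l hl
    obtain ⟨i, hi, rfl⟩ := hsubs s hs
    rw [List.mem_singleton] at hl
    have := hU i (hU' i hi)
    omega
  have hgen : Subgroup.closure (Set.range fun i : Fin t => δ i.val) = ⊤ := by
    rw [eq_top_iff, ← Subgroup.closure_closure_coe_preimage (k := γ '' {i | i ∈ U})]
    apply Subgroup.closure_mono
    rintro x ⟨i, hi, hix⟩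
    exact ⟨⟨i, hU i hi⟩, Subtype.ext (by rw [hδ i hi]; exact hix)⟩
  have : Finite D' := hK.1
  set K : Subgroup D := D'.subgroupOf D with hKdef
  have hKequiv : K ≃* D' := Subgroup.subgroupOfEquivOfLe hle
  have : Finite K := Finite.of_equiv _ hKequiv.symm.toEquiv
  have hKcard : Nat.card K = Nat.card D' := Nat.card_congr hKequiv.toEquiv
  obtain ⟨hfin, hcard⟩ := Cfsg.Agent.Lib.Helper5.Sp62.card_le_of_bound dec hdec bases subsL n hb hlb hls δ hrel hgen K
    (by
      intro s hs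
      obtain ⟨i, hi, rfl⟩ := hsubs s hs
      rw [ev_single, hKdef, Subgroup.mem_subgroupOf, hδ i (hU' i hi)]
      exact Subgroup.subset_closure ⟨i, hi, rfl⟩)
  refine ⟨hfin, le_trans hcard ?_⟩
  rw [hKcard]
  exact Nat.mul_le_mul_left _ hK.2

end Cfsg.Agent.Lib.Helper5.Fi23M
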