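import Cfsg.Agent.Lib.Helper5.Fi23M.Defs
import Cfsg.Agent.Lib.Helper5.Fi23M.Step
import Cfsg.Agent.Lib.Helper5.Fi23TC.BB
import Cfsg.Agent.Lib.Helper5.Fi23TC.E8B
import Cfsg.Agent.Lib.Helper5.Fi23TC.E7B
import Cfsg.Agent.Lib.Helper5.Fi23TC.E6B
import Cfsg.Agent.Lib.Helper5.Fi23TC.D5B
import Cfsg.Agent.Lib.Helper5.Fi23TC.D4B
import Cfsg.Agent.Lib.Helper5.Fi23TC.A3B
import Cfsg.Agent.Lib.Helper5.Fi23TC.A2B
import Cfsg.Agent.Lib.Helper5.Fi23TC.A1B

/-!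
# S2054 piece [E] (helper5): a group generated by ten elements satisfying `relsB` has order at most
`28431 * 696729600 = 2 |O₈⁺(3):2|`

Nine coset enumerations (certificates `Cfsg.Agent.Lib.Helper5.Fi23TC.*.bound`, by helper24's `ptc` and helper4's
checker): `⟨c, d, e, f, g, j, h, i⟩` has index at most `28431` in the weak group, and the Coxeter group of type `E₈`
has order at most `240 * 56 * 27 * 10 * 8 * 4 * 3 * 2 = 696729600` along the chain
`E₈ > E₇ > E₆ > D₅ > D₄ > A₃ > A₂ > A₁ > 1`.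
-/

set_option autoImplicit false
set_option linter.unusedVariables false
set_option maxRecDepth 100000

namespace Cfsg.Agent.Lib.Helper5.Fi23M

open Cfsg.H5.TCk
open Cfsg.Agent.Lib.Helper5.Sp62 (IsStd)
open Cfsg.Agent.Lib.Helper5.Sp62.C (okWord ev_of_ok)

universe u

namespace EAux

theorem std10 : IsStd 10 Cfsg.Agent.Lib.Helper5.Fi23TC.Cod10.dec := by
  intro c hc
  have hc' : c < 20 := hc
  interval_cases c <;> exact ⟨rfl, rfl⟩

/-- the relator of a level kills an unused generator, or is a word in the used letters which is a relator of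
`relsB` or the inverse of one -/
def chkBase (U : List ℕ) (b : List ℕ) : Bool :=
  (decide (b = [2 * (b.headD 0 / 2)]) && decide (b.headD 0 / 2 < 10) && decide (b.headD 0 / 2 ∉ U)) ||
  (b.all (fun l => decide (l / 2 ∈ U)) && okWord relsB b)

theorem chkBase_sound {Γ : Type u} [Group Γ] (γ : ℕ → Γ) (hrel : ∀ r ∈ relsB, ev γ r = 1) (U : List ℕ)
    (B : List (List ℕ)) (h : B.all (chkBase U) = true) :
    ∀ b ∈ B, (∃ k, k < 10 ∧ k ∉ U ∧ b = [2 * k]) ∨ ((∀ l ∈ b, l / 2 ∈ U) ∧ ev γ b = 1) := by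
  intro b hb
  have h1 := List.all_eq_true.mp h b hb
  unfold chkBase at h1
  rw [Bool.or_eq_true] at h1
  rcases h1 with h1 | h1
  · simp only [Bool.and_eq_true, decide_eq_true_eq] at h1
    exact Or.inl ⟨b.headD 0 / 2, h1.1.2, h1.2, h1.1.1⟩
  · rw [Bool.and_eq_true] at h1
    refine Or.inr ⟨fun l hl => of_decide_eq_true (List.all_eq_true.mp h1.1 l hl), ?_⟩
    exact ev_of_ok γ relsB hrel b h1.2

theorem subs_sound (U' : List ℕ) (S : List (List ℕ)) (h : S = U'.map fun i => [2 * i]) :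
    ∀ s ∈ S, ∃ i ∈ U', s = [2 * i] := by
  intro s hs
  rw [h, List.mem_map] at hs
  obtain ⟨i, hi, rfl⟩ := hs
  exact ⟨i, hi, rfl⟩

theorem chkB : Cfsg.Agent.Lib.Helper5.Fi23TC.B.bases.all (chkBase [0, 1, 2, 3, 4, 5, 6, 7, 8, 9]) = true := by
  decide +kernel
theorem chkE8 : Cfsg.Agent.Lib.Helper5.Fi23TC.E8.bases.all (chkBase [3, 4, 5, 6, 7, 8, 2, 1]) = true := by
  decide +kernel
theorem chkE7 : Cfsg.Agent.Lib.Helper5.Fi23TC.E7.bases.all (chkBase [3, 4, 5, 6, 7, 2, 1]) = true := by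
  decide +kernel
theorem chkE6 : Cfsg.Agent.Lib.Helper5.Fi23TC.E6.bases.all (chkBase [3, 4, 5, 6, 2, 1]) = true := by
  decide +kernel
theorem chkD5 : Cfsg.Agent.Lib.Helper5.Fi23TC.D5.bases.all (chkBase [3, 4, 5, 2, 1]) = true := by
  decide +kernel
theorem chkD4 : Cfsg.Agent.Lib.Helper5.Fi23TC.D4.bases.all (chkBase [3, 4, 5, 2]) = true := by
  decide +kernel
theorem chkA3 : Cfsg.Agent.Lib.Helper5.Fi23TC.A3.bases.all (chkBase [3, 4, 5]) = true := by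
  decide +kernel
theorem chkA2 : Cfsg.Agent.Lib.Helper5.Fi23TC.A2.bases.all (chkBase [4, 5]) = true := by
  decide +kernel
theorem chkA1 : Cfsg.Agent.Lib.Helper5.Fi23TC.A1.bases.all (chkBase [5]) = true := by
  decide +kernel

end EAux

open EAux in
/-- [E] `19808719257600 = 28431 * 696729600 = 2 |O₈⁺(3):2|`, `696729600 = |W(E₈)|` -/
theorem card_le_of_relsB {Γ : Type u} [Group Γ] (γ : ℕ → Γ) (hrel : ∀ r ∈ relsB, ev γ r = 1)
    (hgen : Subgroup.closure (Set.range fun i : Fin 10 => γ i.val) = ⊤) :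
    Finite Γ ∧ Nat.card Γ ≤ 19808719257600 := by
  have h0 : Finite (Subgroup.closure (γ '' {i | i ∈ ([] : List ℕ)})) ∧
      Nat.card (Subgroup.closure (γ '' {i | i ∈ ([] : List ℕ)})) ≤ 1 := by
    have : γ '' {i | i ∈ ([] : List ℕ)} = ∅ := by
      ext x
      simp
    rw [this, Subgroup.closure_empty]
    exact ⟨inferInstance, by simp⟩
  have hA1 := step_bound Cfsg.Agent.Lib.Helper5.Fi23TC.Cod10.dec std10 _ _ _
    Cfsg.Agent.Lib.Helper5.Fi23TC.A1.bound γ [5] [] (by decide) (by decide)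
    (chkBase_sound γ hrel _ _ chkA1) (subs_sound [] _ rfl) 1 h0
  have hA2 := step_bound Cfsg.Agent.Lib.Helper5.Fi23TC.Cod10.dec std10 _ _ _
    Cfsg.Agent.Lib.Helper5.Fi23TC.A2.bound γ [4, 5] [5] (by decide) (by decide)
    (chkBase_sound γ hrel _ _ chkA2) (subs_sound [5] _ rfl) _ hA1
  have hA3 := step_bound Cfsg.Agent.Lib.Helper5.Fi23TC.Cod10.dec std10 _ _ _
    Cfsg.Agent.Lib.Helper5.Fi23TC.A3.bound γ [3, 4, 5] [4, 5] (by decide) (by decide)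
    (chkBase_sound γ hrel _ _ chkA3) (subs_sound [4, 5] _ rfl) _ hA2
  have hD4 := step_bound Cfsg.Agent.Lib.Helper5.Fi23TC.Cod10.dec std10 _ _ _
    Cfsg.Agent.Lib.Helper5.Fi23TC.D4.bound γ [3, 4, 5, 2] [3, 4, 5] (by decide) (by decide)
    (chkBase_sound γ hrel _ _ chkD4) (subs_sound [3, 4, 5] _ rfl) _ hA3
  have hD5 := step_bound Cfsg.Agent.Lib.Helper5.Fi23TC.Cod10.dec std10 _ _ _
    Cfsg.Agent.Lib.Helper5.Fi23TC.D5.bound γ [3, 4, 5, 2, 1] [3, 4, 5, 2] (by decide) (by decide)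
    (chkBase_sound γ hrel _ _ chkD5) (subs_sound [3, 4, 5, 2] _ rfl) _ hD4
  have hE6 := step_bound Cfsg.Agent.Lib.Helper5.Fi23TC.Cod10.dec std10 _ _ _
    Cfsg.Agent.Lib.Helper5.Fi23TC.E6.bound γ [3, 4, 5, 6, 2, 1] [3, 4, 5, 2, 1] (by decide) (by decide)
    (chkBase_sound γ hrel _ _ chkE6) (subs_sound [3, 4, 5, 2, 1] _ rfl) _ hD5
  have hE7 := step_bound Cfsg.Agent.Lib.Helper5.Fi23TC.Cod10.dec std10 _ _ _
    Cfsg.Agent.Lib.Helper5.Fi23TC.E7.bound γ [3, 4, 5, 6, 7, 2, 1] [3, 4, 5, 6, 2, 1] (by decide) (by decide)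
    (chkBase_sound γ hrel _ _ chkE7) (subs_sound [3, 4, 5, 6, 2, 1] _ rfl) _ hE6
  have hE8 := step_bound Cfsg.Agent.Lib.Helper5.Fi23TC.Cod10.dec std10 _ _ _
    Cfsg.Agent.Lib.Helper5.Fi23TC.E8.bound γ [3, 4, 5, 6, 7, 8, 2, 1] [3, 4, 5, 6, 7, 2, 1] (by decide) (by decide)
    (chkBase_sound γ hrel _ _ chkE8) (subs_sound [3, 4, 5, 6, 7, 2, 1] _ rfl) _ hE7
  have hB := step_bound Cfsg.Agent.Lib.Helper5.Fi23TC.Cod10.dec std10 _ _ _
    Cfsg.Agent.Lib.Helper5.Fi23TC.B.bound γ [0, 1, 2, 3, 4, 5, 6, 7, 8, 9] [3, 4, 5, 6, 7, 8, 2, 1]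
    (by decide) (by decide)
    (chkBase_sound γ hrel _ _ chkB) (subs_sound [3, 4, 5, 6, 7, 8, 2, 1] _ rfl) _ hE8
  have htop : Subgroup.closure (γ '' {i | i ∈ [0, 1, 2, 3, 4, 5, 6, 7, 8, 9]}) = ⊤ := by
    rw [eq_top_iff, ← hgen]
    apply Subgroup.closure_mono
    rintro _ ⟨i, rfl⟩
    refine ⟨i.val, ?_, rfl⟩
    have := i.isLt
    show i.val ∈ [0, 1, 2, 3, 4, 5, 6, 7, 8, 9]
    interval_cases (i : ℕ) <;> decide
  rw [htop] at hB
  obtain ⟨hfin, hcard⟩ := hB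
  have hfinΓ : Finite Γ := by
    have e : (⊤ : Subgroup Γ) ≃ Γ := Subgroup.topEquiv.toEquiv
    exact Finite.of_equiv _ e
  refine ⟨hfinΓ, ?_⟩
  rw [Subgroup.card_top] at hcard
  refine le_trans hcard ?_
  show 28431 * (240 * (56 * (27 * (10 * (8 * (4 * (3 * (2 * 1)))))))) ≤ 19808719257600
  norm_num

end Cfsg.Agent.Lib.Helper5.Fi23M
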