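import Cfsg.Agent.Lib.Helper5.Fi23M.E
import Cfsg.Agent.Lib.Helper5.Fi23M.D
import Cfsg.Agent.Lib.Helper5.Fi23M.C2
import Cfsg.Agent.Lib.Helper21.Fi23MA
import Cfsg.Agent.Lib.Helper21.Fi23MB
import Cfsg.Agent.Lib.Helper2.Fi23MF1
import Cfsg.Agent.Lib.Helper6.Fi23MF2
import Cfsg.Agent.Lib.Helper6.Fi23MG

/-!
# S2054: the Schur multiplier of `Fi₂₃` is trivial, from `M(Fi₂₂) = C₆` (helper5, with helper2, helper6, helper21,
helper23, helper29 and the libraries of helper4)

Let `σ : Γ → Fi₂₃` be a finite stem extension with kernel `K`; it suffices to treat a `p`-group `K`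
(`Weak.exists_pker`).

* `p ≥ 7`: `p ^ 2 ∤ |Fi₂₃|` (helper11's `SchurJ.not_dvd_of_sq_not_dvd`).
* `p ∈ {2, 5}` ([C1], [C2]): `H = ⟨a, …, i⟩ = 2·Fi₂₂` has index `31671` prime to `p`, so `σ⁻¹(H) → H` is a stem
  extension with the same kernel (transfer), and `σ⁻¹(H) → Fi₂₂` is a finite stem extension with kernel of order
  `2 |K|`, which divides `6`.
* `p = 3` ([A], [B], [D], [E], [F1], [F2]): the generators lift to involutions satisfying the Coxeter relations; the
  lift of `(a b c d e f h) ^ 9` is an involution of `K`, so `1`; the lifts of `b, …, j` together with the lift `z` of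
  the spider relator generate a group of order at most `2 |O₈⁺(3):2|` (coset enumeration of index `28431` over the
  Coxeter group of type `E₈`) mapping onto `⟨b, …, j⟩` of order at least `|O₈⁺(3):2|` (orbit of length `1080` in
  helper4's model on `31671` points, stabiliser containing `⟨b, …, i⟩`), so `z` has order at most `2`, so `z = 1`.
  Hence all relators of `Fi₂₃` hold for the lifts and `σ` splits, so `K = 1`.
-/

set_option autoImplicit false

namespace Cfsg.Agent.Lib.Helper5.Fi23M

open Cfsg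

/-- the Schur multiplier of `Fi₂₃` is trivial if that of `Fi₂₂` is cyclic of order `6` -/
theorem hasMult (hFi22 : Cfsg.HasCyclicSchurMultiplier Cfsg.Spor.Fi22 6) :
    Cfsg.HasCyclicSchurMultiplier Cfsg.Spor.Fi23 1 :=
  hasMult_of ⟨DAux.finiteG, Cfsg.Agent.Helper4.TC.Fi23S.main.2⟩
    (fun p _ hp _ _ _ σ hσ hk => card_ker_eq_one_of_Fi22 hFi22 p hp σ hσ hk)
    (fun σ hσ hk => card_ker_eq_one_three_of
      (fun σ hs hc hk g hg => exists_cox_lifts σ hs hc (by norm_num) hk g hg)
      (fun σ hc hk γh h1 h2 h3 =>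
        rho1_lift_eq_one_of card_B_ge (fun γ hr hg => card_le_of_relsB γ hr hg) σ hc hk γh h1 h2 h3)
      σ hσ hk)

end Cfsg.Agent.Lib.Helper5.Fi23M
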